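import Groth.Agent.CycCover.Local

/-!
The normalization of the cyclic cover `t ^ N = u f ^ α`.
-/

set_option autoImplicit false

universe u

open IsLocalRing Polynomial

namespace Groth.Agent.CycCover

/-- The data of a cyclic cover inside an algebra where `f` is invertible. -/
structure CovData (B L : Type u) [CommRing B] [CommRing L] [Algebra B L] where
  N : ℕ
  hN : 0 < N
  α : ℕ
  u : Bˣ
  f : B
  x : L
  inv : L
  hinv : algebraMap B L f * inv = 1
  hxN : x ^ N = algebraMap B L u * algebraMap B L f ^ α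
  hind : ∀ b : Fin N → B, ∑ i, b i • x ^ (i : ℕ) = 0 → b = 0

variable {B L : Type u} [CommRing B] [CommRing L] [Algebra B L]

namespace CovData

variable (D : CovData B L)

/-- The generators. -/
def e (i : ℕ) : L := D.x ^ i * D.inv ^ (i * D.α / D.N)

theorem finv_pow (n : ℕ) : algebraMap B L D.f ^ n * D.inv ^ n = 1 := by
  rw [← mul_pow, D.hinv, one_pow]

theorem e_zero : D.e 0 = 1 := by simp [e]

theorem e_add_N (i : ℕ) : D.e (i + D.N) = algebraMap B L D.u * D.e i := by
  have h : (i + D.N) * D.α / D.N = i * D.α / D.N + D.α := by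
    rw [add_mul, mul_comm D.N D.α, Nat.add_mul_div_right _ _ D.hN]
  rw [e, e, h, pow_add, pow_add, D.hxN]
  calc D.x ^ i * (algebraMap B L D.u * algebraMap B L D.f ^ D.α) *
        (D.inv ^ (i * D.α / D.N) * D.inv ^ D.α)
      = algebraMap B L D.u * (D.x ^ i * D.inv ^ (i * D.α / D.N)) *
        (algebraMap B L D.f ^ D.α * D.inv ^ D.α) := by ring
    _ = _ := by rw [D.finv_pow, mul_one]

theorem e_add_mul_N (i j : ℕ) : D.e (i + D.N * j) = algebraMap B L D.u ^ j * D.e i := by
  induction j with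
  | zero => simp
  | succ j ih => rw [Nat.mul_succ, ← add_assoc, D.e_add_N, ih, pow_succ]; ring

theorem e_mul (i j δ : ℕ) (h : i * D.α / D.N + j * D.α / D.N + δ = (i + j) * D.α / D.N) :
    D.e i * D.e j = algebraMap B L D.f ^ δ * D.e (i + j) := by
  rw [e, e, e, ← h, pow_add, pow_add, pow_add]
  calc D.x ^ i * D.inv ^ (i * D.α / D.N) * (D.x ^ j * D.inv ^ (j * D.α / D.N))
      = D.x ^ i * D.x ^ j * (D.inv ^ (i * D.α / D.N) * D.inv ^ (j * D.α / D.N)) *
          (algebraMap B L D.f ^ δ * D.inv ^ δ) := by rw [D.finv_pow]; ring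
    _ = _ := by ring

theorem e_mem_span (i : ℕ) : D.e i ∈ Submodule.span B (Set.range fun l : Fin D.N => D.e l) := by
  have h : D.e i = algebraMap B L D.u ^ (i / D.N) * D.e (i % D.N) := by
    rw [← D.e_add_mul_N, Nat.mod_add_div]
  rw [h, ← map_pow, ← Algebra.smul_def]
  exact Submodule.smul_mem _ _ (Submodule.subset_span ⟨⟨i % D.N, Nat.mod_lt _ D.hN⟩, rfl⟩)

/-- The normalization. -/
def A : Subalgebra B L := Algebra.adjoin B (Set.range fun i : Fin D.N => D.e i)

theorem mul_mem_span {a b : L} (ha : a ∈ Submodule.span B (Set.range fun l : Fin D.N => D.e l))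
    (hb : b ∈ Submodule.span B (Set.range fun l : Fin D.N => D.e l)) :
    a * b ∈ Submodule.span B (Set.range fun l : Fin D.N => D.e l) := by
  have key : ∀ (i j : Fin D.N), D.e i * D.e j ∈ Submodule.span B (Set.range fun l : Fin D.N => D.e l) := by
    intro i j
    have hle : (i : ℕ) * D.α / D.N + (j : ℕ) * D.α / D.N ≤ ((i : ℕ) + j) * D.α / D.N := by
      rw [add_mul]; exact Nat.div_add_div_le_add_div
    obtain ⟨δ, hδ⟩ := Nat.exists_eq_add_of_le hle
    rw [D.e_mul i j δ hδ.symm, ← map_pow, ← Algebra.smul_def]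
    exact Submodule.smul_mem _ _ (D.e_mem_span _)
  induction ha using Submodule.span_induction with
  | mem a ha =>
    obtain ⟨i, rfl⟩ := ha
    induction hb using Submodule.span_induction with
    | mem b hb => obtain ⟨j, rfl⟩ := hb; exact key i j
    | zero => rw [mul_zero]; exact zero_mem _
    | add b b' _ _ hb hb' => rw [mul_add]; exact add_mem hb hb'
    | smul c b _ hb => rw [mul_smul_comm]; exact Submodule.smul_mem _ _ hb
  | zero => rw [zero_mul]; exact zero_mem _
  | add a a' _ _ ha ha' => rw [add_mul]; exact add_mem ha ha'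
  | smul c a _ ha => rw [smul_mul_assoc]; exact Submodule.smul_mem _ _ ha

theorem toSubmodule_A :
    Subalgebra.toSubmodule D.A = Submodule.span B (Set.range fun l : Fin D.N => D.e l) := by
  refine le_antisymm (fun a ha => ?_) ?_
  · change a ∈ D.A at ha
    induction ha using Algebra.adjoin_induction with
    | mem a ha => exact Submodule.subset_span ha
    | algebraMap r =>
      rw [Algebra.algebraMap_eq_smul_one, ← D.e_zero]
      exact Submodule.smul_mem _ _ (D.e_mem_span 0)
    | add a b _ _ ha hb => exact add_mem ha hb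
    | mul a b _ _ ha hb => exact D.mul_mem_span ha hb
  · rw [Submodule.span_le]
    rintro _ ⟨i, rfl⟩
    exact Algebra.subset_adjoin ⟨i, rfl⟩

theorem e_mem (i : ℕ) : D.e i ∈ D.A := by
  rw [← Subalgebra.mem_toSubmodule, D.toSubmodule_A]; exact D.e_mem_span i

/-- The generators in the normalization. -/
def E (i : ℕ) : D.A := ⟨D.e i, D.e_mem i⟩

theorem x_mem : D.x ∈ D.A := by
  have h : D.x = algebraMap B L (D.f ^ (1 * D.α / D.N)) * D.e 1 := by
    rw [map_pow, e, pow_one, mul_comm D.x, ← mul_assoc, D.finv_pow, one_mul]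
  rw [h]
  exact mul_mem (Subalgebra.algebraMap_mem _ _) (D.e_mem 1)

theorem linearIndependent_e [IsDomain B] (hf : D.f ≠ 0) :
    LinearIndependent B fun l : Fin D.N => D.e l := by
  rw [Fintype.linearIndependent_iff]
  intro b hb
  have hc : ∀ i : Fin D.N, (i : ℕ) * D.α / D.N ≤ D.α := fun i =>
    Nat.div_le_of_le_mul (Nat.mul_le_mul_right _ i.2.le)
  have h1 : ∑ i : Fin D.N, (b i * D.f ^ (D.α - (i : ℕ) * D.α / D.N)) • D.x ^ (i : ℕ) = 0 := by
    rw [← mul_zero (algebraMap B L D.f ^ D.α), ← hb, Finset.mul_sum]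
    refine Finset.sum_congr rfl fun i _ => ?_
    rw [Algebra.smul_def, Algebra.smul_def, map_mul, map_pow, e]
    have hpow : algebraMap B L D.f ^ D.α = algebraMap B L D.f ^ (D.α - (i : ℕ) * D.α / D.N) *
        algebraMap B L D.f ^ ((i : ℕ) * D.α / D.N) := by rw [← pow_add, Nat.sub_add_cancel (hc i)]
    calc algebraMap B L (b i) * algebraMap B L D.f ^ (D.α - (i : ℕ) * D.α / D.N) * D.x ^ (i : ℕ)
        = algebraMap B L (b i) * algebraMap B L D.f ^ (D.α - (i : ℕ) * D.α / D.N) * D.x ^ (i : ℕ) *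
          (algebraMap B L D.f ^ ((i : ℕ) * D.α / D.N) * D.inv ^ ((i : ℕ) * D.α / D.N)) := by
          rw [D.finv_pow, mul_one]
      _ = _ := by rw [hpow]; ring
  intro i
  exact (mul_eq_zero.1 (congrFun (D.hind _ h1) i)).resolve_right (pow_ne_zero _ hf)

theorem finite : Module.Finite B D.A :=
  ⟨(Submodule.fg_top (Subalgebra.toSubmodule D.A)).2 (by rw [D.toSubmodule_A]; exact Submodule.fg_span (Set.finite_range _))⟩

theorem free [IsDomain B] (hf : D.f ≠ 0) : Module.Free B D.A :=
  have : Module.Free B (Submodule.span B (Set.range fun l : Fin D.N => D.e l)) :=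
    Module.Free.of_basis (Module.Basis.span (D.linearIndependent_e hf))
  Module.Free.of_equiv (LinearEquiv.ofEq _ (Subalgebra.toSubmodule D.A) D.toSubmodule_A.symm)

theorem A_induction (p : D.A → Prop) (hE : ∀ i, p (D.E i)) (h0 : p 0) (hadd : ∀ a b, p a → p b → p (a + b))
    (hsmul : ∀ (c : B) a, p a → p (algebraMap B D.A c * a)) (a : D.A) : p a := by
  obtain ⟨a, ha⟩ := a
  have ha' : a ∈ Submodule.span B (Set.range fun l : Fin D.N => D.e l) := by
    rw [← D.toSubmodule_A]; exact ha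
  induction ha' using Submodule.span_induction with
  | mem a h => obtain ⟨i, rfl⟩ := h; exact hE i
  | zero => exact h0
  | add a b ha' hb' iha ihb =>
    exact hadd ⟨a, by rw [← Subalgebra.mem_toSubmodule, D.toSubmodule_A]; exact ha'⟩
      ⟨b, by rw [← Subalgebra.mem_toSubmodule, D.toSubmodule_A]; exact hb'⟩ (iha _) (ihb _)
  | smul c a ha' iha =>
    have h := hsmul c ⟨a, by rw [← Subalgebra.mem_toSubmodule, D.toSubmodule_A]; exact ha'⟩ (iha _)
    convert h using 1
    exact Subtype.ext (Algebra.smul_def c a)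

/-- A generator of the ideal of the branch locus. -/
theorem exists_y : ∃ (y : D.A) (n : ℕ), algebraMap B D.A D.f ∈ Ideal.span {y} ∧
    y ^ n ∈ Ideal.span {algebraMap B D.A D.f} ∧
    ∀ i, ¬ D.N ∣ i * D.α → D.E i ∈ Ideal.span {y} := by
  rcases (Nat.le_of_dvd D.hN (Nat.gcd_dvd_right D.α D.N)).lt_or_eq with hlt | heq
  · obtain ⟨i₀, -, hi₀⟩ := Nat.exists_mul_mod_eq_gcd hlt
    rw [mul_comm] at hi₀
    have hg : 0 < D.α.gcd D.N := Nat.gcd_pos_of_pos_right _ D.hN
    have hi₀N : i₀ ≤ D.N * i₀ := Nat.le_mul_of_pos_left _ D.hN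
    refine ⟨D.E i₀, D.N, ?_, ?_, fun i hi => ?_⟩
    · let j := D.N * i₀ - i₀
      have hj : j + i₀ = 0 + D.N * i₀ := by omega
      have h1 : (j + i₀) * D.α = j * D.α + i₀ * D.α := add_mul _ _ _
      have h2 : (j + i₀) * D.α = D.N * (i₀ * D.α) := by rw [hj, zero_add]; ring
      have hδ : j * D.α / D.N + i₀ * D.α / D.N + 1 = (j + i₀) * D.α / D.N := by
        rw [h2, Nat.mul_div_cancel_left _ D.hN]
        have h3 := Nat.div_add_mod (j * D.α) D.N
        have h4 := Nat.div_add_mod (i₀ * D.α) D.N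
        have h5 := Nat.mod_lt (j * D.α) D.hN
        have h7 : D.N * (j * D.α / D.N + i₀ * D.α / D.N) + ((j * D.α) % D.N + D.α.gcd D.N) =
            D.N * (i₀ * D.α) := by rw [mul_add, ← h2, h1]; omega
        have h8 : j * D.α / D.N + i₀ * D.α / D.N < i₀ * D.α :=
          Nat.lt_of_mul_lt_mul_left (a := D.N) (by omega)
        have h9 : i₀ * D.α < j * D.α / D.N + i₀ * D.α / D.N + 2 :=
          Nat.lt_of_mul_lt_mul_left (a := D.N) (by rw [mul_add _ _ 2]; omega)
        omega
      refine Ideal.mem_span_singleton'.2 ⟨algebraMap B D.A ((↑D.u⁻¹ : B) ^ i₀) * D.E j, Subtype.ext ?_⟩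
      change algebraMap B L _ * D.e j * D.e i₀ = algebraMap B L D.f
      rw [mul_assoc, D.e_mul j i₀ 1 hδ, hj, D.e_add_mul_N, D.e_zero, mul_one, pow_one, mul_left_comm,
        map_pow, ← mul_pow, ← map_mul, Units.inv_mul, map_one, one_pow, mul_one]
    · refine Ideal.mem_span_singleton'.2
        ⟨algebraMap B D.A ((D.u : B) ^ i₀ * D.f ^ (D.α.gcd D.N - 1)), Subtype.ext ?_⟩
      change algebraMap B L _ * algebraMap B L D.f = D.e i₀ ^ D.N
      rw [e, mul_pow, ← pow_mul, mul_comm i₀ D.N, pow_mul, D.hxN, map_mul, map_pow, map_pow, mul_assoc,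
        ← pow_succ, Nat.sub_add_cancel hg, mul_pow, ← pow_mul, ← pow_mul, mul_assoc]
      congr 1
      have h4 : D.α * i₀ = D.α.gcd D.N + i₀ * D.α / D.N * D.N := by
        have := Nat.div_add_mod (i₀ * D.α) D.N
        rw [mul_comm D.α, mul_comm _ D.N]; omega
      rw [h4, pow_add, mul_assoc, D.finv_pow, mul_one]
    · let j := i + D.N * i₀ - i₀
      have hj : j + i₀ = i + D.N * i₀ := by omega
      have hr : (j * D.α + i₀ * D.α) % D.N = i * D.α % D.N := by
        rw [← add_mul, hj, add_mul, mul_assoc, Nat.add_mul_mod_self_left]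
      have hr0 : i * D.α % D.N ≠ 0 := fun h => hi (Nat.dvd_of_mod_eq_zero h)
      have hrg : D.α.gcd D.N ≤ i * D.α % D.N := Nat.le_of_dvd (Nat.pos_of_ne_zero hr0)
        ((Nat.dvd_mod_iff (Nat.gcd_dvd_right _ _)).2 ((Nat.gcd_dvd_left _ _).mul_left _))
      have h5 := Nat.mod_lt (j * D.α) D.hN
      have hrN := Nat.mod_lt (i * D.α) D.hN
      have hs : (j * D.α) % D.N + D.α.gcd D.N < D.N := by
        by_contra hge
        have h6 : ((j * D.α) % D.N + D.α.gcd D.N) % D.N = i * D.α % D.N := by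
          rw [← hi₀, ← Nat.add_mod, hr]
        rw [Nat.mod_eq_sub_mod (Nat.not_lt.1 hge), Nat.mod_eq_of_lt (by omega)] at h6
        omega
      have hδ : j * D.α / D.N + i₀ * D.α / D.N + 0 = (j + i₀) * D.α / D.N := by
        rw [add_zero, add_mul, Nat.add_div_eq_of_add_mod_lt (by rw [hi₀]; exact hs)]
      refine Ideal.mem_span_singleton'.2 ⟨algebraMap B D.A ((↑D.u⁻¹ : B) ^ i₀) * D.E j, Subtype.ext ?_⟩
      change algebraMap B L _ * D.e j * D.e i₀ = D.e i
      rw [mul_assoc, D.e_mul j i₀ 0 hδ, hj, D.e_add_mul_N, pow_zero, one_mul, ← mul_assoc,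
        map_pow, ← mul_pow, ← map_mul, Units.inv_mul, map_one, one_pow, one_mul]
  · refine ⟨algebraMap B D.A D.f, 1, Ideal.mem_span_singleton_self _,
      by rw [pow_one]; exact Ideal.mem_span_singleton_self _, fun i hi => absurd ?_ hi⟩
    exact Dvd.dvd.mul_left (heq ▸ Nat.gcd_dvd_left D.α D.N) _

/-- The generator `w` away from the branch ideal. -/
theorem exists_w : ∃ (w : D.A) (g : ℕ), g ∣ D.N ∧ w ^ g = algebraMap B D.A D.u ∧
    ∀ i, D.N ∣ i * D.α → ∃ j, D.E i = w ^ j := by
  obtain ⟨a', ha'⟩ := Nat.gcd_dvd_left D.α D.N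
  obtain ⟨m, hm⟩ := Nat.gcd_dvd_right D.α D.N
  have hm0 : 0 < m := Nat.pos_of_ne_zero fun h => D.hN.ne' (by rw [hm, h, mul_zero])
  have hg : 0 < D.α.gcd D.N := Nat.gcd_pos_of_pos_right _ D.hN
  have hpow : ∀ j, D.E (m * j) = D.E m ^ j := by
    intro j
    induction j with
    | zero => exact Subtype.ext (by rw [mul_zero, pow_zero]; exact D.e_zero)
    | succ j ih =>
      rw [pow_succ, ← ih]
      refine Subtype.ext ?_
      change D.e (m * (j + 1)) = D.e (m * j) * D.e m
      have hd : ∀ l, m * l * D.α / D.N = l * a' := fun l => by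
        rw [show m * l * D.α = D.N * (l * a') by
          calc m * l * D.α = m * l * (D.α.gcd D.N * a') := by rw [← ha']
            _ = D.α.gcd D.N * m * (l * a') := by ring
            _ = D.N * (l * a') := by rw [← hm], Nat.mul_div_cancel_left _ D.hN]
      have hd1 : m * D.α / D.N = 1 * a' := by simpa using hd 1
      rw [D.e_mul (m * j) m 0 (by rw [← Nat.mul_succ, hd, hd1, hd, add_zero, Nat.succ_eq_add_one]; ring), pow_zero, one_mul,
        Nat.mul_succ]
  refine ⟨D.E m, D.α.gcd D.N, Nat.gcd_dvd_right _ _, ?_, fun i hi => ?_⟩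
  · rw [← hpow, mul_comm, ← hm]
    refine Subtype.ext ?_
    change D.e D.N = algebraMap B L D.u
    rw [← Nat.zero_add D.N, D.e_add_N, D.e_zero, mul_one]
  · have hcop : m.Coprime a' := by
      have h := Nat.coprime_div_gcd_div_gcd hg
      rw [Nat.div_eq_of_eq_mul_right hg ha', Nat.div_eq_of_eq_mul_right hg hm] at h
      exact h.symm
    have h1 : m ∣ i * a' := by
      have h2 : D.α.gcd D.N * m ∣ D.α.gcd D.N * (i * a') := by
        rw [← hm, mul_left_comm, ← ha']; exact hi
      exact Nat.dvd_of_mul_dvd_mul_left hg h2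
    obtain ⟨j, rfl⟩ := hcop.dvd_of_dvd_mul_right h1
    exact ⟨j, hpow j⟩

theorem isNoetherian_A [IsNoetherianRing B] : IsNoetherianRing D.A :=
  have := D.finite
  isNoetherianRing_iff.2 (isNoetherian_of_tower B inferInstance)

theorem height_le [IsDomain B] [IsNoetherianRing B] (hf : D.f ≠ 0) (Q : Ideal D.A) [Q.IsPrime] :
    (Q.under B).height ≤ Q.height := by
  have := D.free hf
  have := D.isNoetherian_A
  rw [Ideal.height_eq_height_add_of_liesOver_of_hasGoingDown (Q.under B) Q]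
  exact le_self_add

theorem isRegularLocalRing_branch [IsDomain B] [IsNoetherianRing B] (hf : D.f ≠ 0)
    (hNu : IsUnit (D.N : B))
    (hD : ∀ (P : Ideal (B ⧸ Ideal.span {D.f})) [P.IsPrime], IsRegularLocalRing (Localization.AtPrime P))
    (y : D.A) (n : ℕ) (hy₁ : algebraMap B D.A D.f ∈ Ideal.span {y})
    (hy₂ : y ^ n ∈ Ideal.span {algebraMap B D.A D.f})
    (hy₃ : ∀ i, ¬ D.N ∣ i * D.α → D.E i ∈ Ideal.span {y})
    (Q : Ideal D.A) [Q.IsPrime] (hfQ : algebraMap B D.A D.f ∈ Q) :
    IsRegularLocalRing (Localization.AtPrime Q) ∧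
      IsDomain (Localization.AtPrime Q ⧸ Ideal.span {algebraMap D.A (Localization.AtPrime Q) y}) := by
  classical
  have := D.isNoetherian_A
  let P := Q.under B
  have hfP : D.f ∈ P := hfQ
  have hyQ : y ∈ Q := ‹Q.IsPrime›.mem_of_pow_mem n ((Ideal.span_singleton_le_iff_mem Q).2 hfQ hy₂)
  let π := Ideal.Quotient.mk (Ideal.span {D.f})
  have hcomap : (P.map π).comap π = P := by
    rw [Ideal.comap_map_of_surjective π Ideal.Quotient.mk_surjective, ← RingHom.ker_eq_comap_bot,
      Ideal.mk_ker, sup_eq_left.2 ((Ideal.span_singleton_le_iff_mem P).2 hfP)]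
  have hP' : (P.map π).IsPrime := Ideal.map_isPrime_of_surjective Ideal.Quotient.mk_surjective
    (by rw [Ideal.mk_ker]; exact (Ideal.span_singleton_le_iff_mem P).2 hfP)
  obtain ⟨t', ht'P, ht'card, ht'gen⟩ := exists_numerators (P.map π) (hD _)
  choose r hr using Ideal.Quotient.mk_surjective (I := Ideal.span {D.f})
  let t : Finset B := t'.image r
  have htP : (t : Set B) ⊆ P := by
    intro b hb
    obtain ⟨b', hb', rfl⟩ := Finset.mem_image.1 (Finset.mem_coe.1 hb)
    rw [SetLike.mem_coe, ← hcomap, Ideal.mem_comap]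
    exact (hr b').symm ▸ ht'P hb'
  have hspan : Ideal.span (t' : Set (B ⧸ Ideal.span {D.f})) = (Ideal.span (t : Set B)).map π := by
    rw [Ideal.map_span]
    congr 1
    ext b'
    simp only [t, Finset.coe_image, Set.image_image, π, hr, Set.image_id']
  have hPt : ∀ b ∈ P, ∃ s ∉ P, algebraMap B D.A (s * b) ∈
      Ideal.span (algebraMap B D.A '' (t : Set B) ∪ {y}) := by
    intro b hb
    obtain ⟨s', hs', hsb⟩ := ht'gen (π b) (Ideal.mem_map_of_mem π hb)
    obtain ⟨s, rfl⟩ := Ideal.Quotient.mk_surjective s'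
    refine ⟨s, fun hs => hs' (Ideal.mem_map_of_mem π hs), ?_⟩
    rw [← map_mul, hspan, ← Ideal.mem_comap, Ideal.comap_map_of_surjective π Ideal.Quotient.mk_surjective,
      ← RingHom.ker_eq_comap_bot, Ideal.mk_ker] at hsb
    have h1 := Ideal.mem_map_of_mem (algebraMap B D.A) hsb
    rw [Ideal.map_sup, Ideal.map_span, Ideal.map_span, Set.image_singleton] at h1
    refine (sup_le (Ideal.span_mono Set.subset_union_left) ?_ :
      Ideal.span (algebraMap B D.A '' (t : Set B)) ⊔ Ideal.span {algebraMap B D.A D.f} ≤ _) h1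
    rw [Ideal.span_singleton_le_iff_mem]
    exact Ideal.span_mono Set.subset_union_right hy₁
  obtain ⟨w, g, hgN, hw, hwE⟩ := D.exists_w
  have hgen : ∀ a : D.A, ∃ (b : B) (q : B[X]), b ∉ P ∧
      algebraMap B D.A b * a - aeval w q ∈ Ideal.span {y} := by
    suffices h : ∀ a : D.A, ∃ q : B[X], a - aeval w q ∈ Ideal.span {y} by
      intro a
      obtain ⟨q, hq⟩ := h a
      exact ⟨1, q, Ideal.one_notMem _, by rwa [map_one, one_mul]⟩
    refine D.A_induction _ (fun i => ?_) ⟨0, by rw [map_zero, sub_zero]; exact zero_mem _⟩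
      (fun a b ⟨q, hq⟩ ⟨q', hq'⟩ => ⟨q + q', by rw [map_add, add_sub_add_comm]; exact add_mem hq hq'⟩)
      (fun c a ⟨q, hq⟩ => ⟨C c * q, by rw [map_mul, aeval_C, ← mul_sub]; exact Ideal.mul_mem_left _ _ hq⟩)
    by_cases hi : D.N ∣ i * D.α
    · obtain ⟨j, hj⟩ := hwE i hi
      exact ⟨X ^ j, by rw [map_pow, aeval_X, hj, sub_self]; exact zero_mem _⟩
    · exact ⟨0, by rw [map_zero, sub_zero]; exact hy₃ i hi⟩
  have hgu : IsUnit (g : B) := by
    obtain ⟨c, hc⟩ := hgN
    rw [hc, Nat.cast_mul] at hNu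
    exact isUnit_of_mul_isUnit_left hNu
  have huP : (D.u : B) ∉ P := fun h => (‹Q.IsPrime›.under B).ne_top (Ideal.eq_top_of_isUnit_mem _ h D.u.isUnit)
  let S := Localization.AtPrime Q
  let σ := algebraMap D.A S
  have hm := maximalIdeal_eq_span P Q t y hyQ htP hPt w g hgu D.u huP hw hgen
  let t₁ : Finset S := t.image (σ ∘ algebraMap B D.A)
  have hm' : maximalIdeal S = Ideal.span ((t₁ : Set S) ∪ ↑({σ y} : Finset S)) := by
    have h : (t₁ : Set S) = (σ ∘ algebraMap B D.A) '' (t : Set B) := Finset.coe_image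
    rw [hm, h, Finset.coe_singleton]
  obtain ⟨d, hd⟩ := CAlgReg.exists_dim (R := S)
  have hcard : t₁.card + 1 ≤ d := by
    have h1 : ((t₁.card + 1 : ℕ) : ℕ∞) ≤ Q.height := by
      refine le_trans ?_ (D.height_le hf Q)
      refine le_trans ?_ (height_add_one_le hf P (P.map π) hcomap)
      push_cast
      gcongr
      exact le_trans (by exact_mod_cast Finset.card_image_le.trans Finset.card_image_le)
        (WithBot.coe_le_coe.1 ht'card)
    have h2 : ((Q.height : ℕ∞) : WithBot ℕ∞) = ((d : ℕ∞) : WithBot ℕ∞) := by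
      rw [← IsLocalization.AtPrime.ringKrullDim_eq_height Q S, hd]; rfl
    rw [WithBot.coe_inj.1 h2] at h1
    exact_mod_cast h1
  have hreg : IsRegularLocalRing S := by
    refine IsRegularLocalRing.of_spanFinrank_maximalIdeal_le S ?_
    rw [hd, hm']
    refine (Nat.cast_le.2 (((Submodule.spanFinrank_span_le_ncard_of_finite (Finset.finite_toSet _ |>.union
      (Finset.finite_toSet _))).trans (Set.ncard_union_le _ _)).trans ?_))
    rw [Set.ncard_coe_finset, Set.ncard_coe_finset, Finset.card_singleton]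
    exact hcard
  refine ⟨hreg, ?_⟩
  obtain ⟨h1, -, -⟩ := CAlgReg.quotient_span hd ({σ y} : Finset S) t₁
    (by rw [hm', Set.union_comm]) (by rw [Finset.card_singleton]; omega)
  rw [Finset.coe_singleton] at h1
  exact @CAlgReg.isDomain _ _ h1

theorem isRegularLocalRing_generic [IsDomain B] [IsNoetherianRing B] (hf : D.f ≠ 0)
    (hNu : IsUnit (D.N : B))
    (hreg : ∀ (P : Ideal B) [P.IsPrime], IsRegularLocalRing (Localization.AtPrime P))
    (Q : Ideal D.A) [Q.IsPrime] (hfQ : algebraMap B D.A D.f ∉ Q) :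
    IsRegularLocalRing (Localization.AtPrime Q) := by
  classical
  have := D.isNoetherian_A
  let P := Q.under B
  have hfP : D.f ∉ P := hfQ
  obtain ⟨t, htP, htcard, htgen⟩ := exists_numerators P (hreg P)
  let w : D.A := ⟨D.x, D.x_mem⟩
  have hgen : ∀ a : D.A, ∃ (b : B) (q : B[X]), b ∉ P ∧
      algebraMap B D.A b * a - aeval w q ∈ Ideal.span ({0} : Set D.A) := by
    refine D.A_induction _ (fun i => ⟨D.f ^ (i * D.α / D.N), X ^ i,
        fun h => hfP ((‹Q.IsPrime›.under B).mem_of_pow_mem _ h), ?_⟩)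
      ⟨1, 0, Ideal.one_notMem _, by rw [map_zero, mul_zero, sub_zero]; exact zero_mem _⟩
      (fun a b ⟨c, q, hc, hq⟩ ⟨c', q', hc', hq'⟩ =>
        ⟨c * c', C c' * q + C c * q', fun h => ((‹Q.IsPrime›.under B).mem_or_mem h).elim hc hc', ?_⟩)
      (fun r a ⟨c, q, hc, hq⟩ => ⟨c, C r * q, hc, ?_⟩)
    · rw [Ideal.span_singleton_zero, Ideal.mem_bot, sub_eq_zero, aeval_X_pow]
      refine Subtype.ext ?_
      change algebraMap B L (D.f ^ (i * D.α / D.N)) * D.e i = D.x ^ i
      rw [map_pow, e, mul_left_comm, D.finv_pow, mul_one]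
    · rw [Ideal.span_singleton_zero, Ideal.mem_bot] at hq hq' ⊢
      rw [map_mul, map_add, map_mul, map_mul, aeval_C, aeval_C]
      linear_combination algebraMap B D.A c' * hq + algebraMap B D.A c * hq'
    · rw [Ideal.span_singleton_zero, Ideal.mem_bot] at hq ⊢
      rw [map_mul, aeval_C]
      linear_combination algebraMap B D.A r * hq
  have hPt : ∀ b ∈ P, ∃ s ∉ P, algebraMap B D.A (s * b) ∈
      Ideal.span (algebraMap B D.A '' (t : Set B) ∪ {0}) := fun b hb => by
    obtain ⟨s, hs, hsb⟩ := htgen b hb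
    refine ⟨s, hs, Ideal.span_mono Set.subset_union_left ?_⟩
    rw [← Ideal.map_span]
    exact Ideal.mem_map_of_mem _ hsb
  have hcP : (D.u : B) * D.f ^ D.α ∉ P := fun h =>
    ((‹Q.IsPrime›.under B).mem_or_mem h).elim
      (fun h => (‹Q.IsPrime›.under B).ne_top (Ideal.eq_top_of_isUnit_mem _ h D.u.isUnit))
      (fun h => hfP ((‹Q.IsPrime›.under B).mem_of_pow_mem _ h))
  have hw : w ^ D.N = algebraMap B D.A ((D.u : B) * D.f ^ D.α) := Subtype.ext (by
    change D.x ^ D.N = algebraMap B L _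
    rw [D.hxN, map_mul, map_pow])
  have hm := maximalIdeal_eq_span P Q t 0 Q.zero_mem htP hPt w D.N hNu _ hcP hw hgen
  let S := Localization.AtPrime Q
  obtain ⟨d, hd⟩ := CAlgReg.exists_dim (R := S)
  refine IsRegularLocalRing.of_spanFinrank_maximalIdeal_le S ?_
  rw [hd, hm, map_zero, Set.union_singleton, Ideal.span_insert_zero]
  refine Nat.cast_le.2 ((Submodule.spanFinrank_span_le_ncard_of_finite (t.finite_toSet.image _)).trans
    ((Set.ncard_image_le t.finite_toSet).trans ?_))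
  rw [Set.ncard_coe_finset]
  have h1 : ((t.card : ℕ) : ℕ∞) ≤ Q.height := le_trans (WithBot.coe_le_coe.1 htcard) (D.height_le hf Q)
  have h2 : ((Q.height : ℕ∞) : WithBot ℕ∞) = ((d : ℕ∞) : WithBot ℕ∞) := by
    rw [← IsLocalization.AtPrime.ringKrullDim_eq_height Q S, hd]; rfl
  rw [WithBot.coe_inj.1 h2] at h1
  exact_mod_cast h1

theorem isRegularLocalRing_A [IsDomain B] [IsNoetherianRing B] (hf : D.f ≠ 0) (hNu : IsUnit (D.N : B))
    (hreg : ∀ (P : Ideal B) [P.IsPrime], IsRegularLocalRing (Localization.AtPrime P))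
    (hD : ∀ (P : Ideal (B ⧸ Ideal.span {D.f})) [P.IsPrime], IsRegularLocalRing (Localization.AtPrime P))
    (Q : Ideal D.A) [Q.IsPrime] : IsRegularLocalRing (Localization.AtPrime Q) := by
  by_cases hfQ : algebraMap B D.A D.f ∈ Q
  · obtain ⟨y, n, h1, h2, h3⟩ := D.exists_y
    exact (D.isRegularLocalRing_branch hf hNu hD y n h1 h2 h3 Q hfQ).1
  · exact D.isRegularLocalRing_generic hf hNu hreg Q hfQ

/-- The normalization is integrally closed where `f` is inverted. -/
theorem mem_A_of_isIntegral [IsDomain B] [IsNoetherianRing B] (hf : D.f ≠ 0) (hNu : IsUnit (D.N : B))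
    (hD : ∀ (P : Ideal (B ⧸ Ideal.span {D.f})) [P.IsPrime], IsRegularLocalRing (Localization.AtPrime P))
    (z : L) (hz : IsIntegral B z) (hden : ∃ n, algebraMap B L D.f ^ n * z ∈ D.A) : z ∈ D.A := by
  obtain ⟨y, n, hy₁, hy₂, hy₃⟩ := D.exists_y
  obtain ⟨c₁, hc₁⟩ := Ideal.mem_span_singleton'.1 hy₁
  obtain ⟨c₂, hc₂⟩ := Ideal.mem_span_singleton'.1 hy₂
  have hc₁' : (c₁ : L) * (y : L) = algebraMap B L D.f := congrArg Subtype.val hc₁
  have hc₂' : (c₂ : L) * algebraMap B L D.f = (y : L) ^ n := congrArg Subtype.val hc₂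
  have hyu : IsUnit (y : L) :=
    isUnit_of_mul_isUnit_right (hc₁'.symm ▸ IsUnit.of_mul_eq_one _ D.hinv : IsUnit ((c₁ : L) * (y : L)))
  have hrad : ∀ (a : D.A) (m : ℕ), a ^ m ∈ Ideal.span {y} → a ∈ Ideal.span {y} := by
    intro a m ham
    let J : Ideal D.A := Submodule.comap (Algebra.lmul D.A D.A a) (Ideal.span {y})
    have hJ : ∀ c, c ∈ J ↔ a * c ∈ Ideal.span {y} := fun c => Iff.rfl
    by_contra ha
    have hJne : J ≠ ⊤ := fun h => ha (by
      have := (hJ 1).1 (h ▸ Submodule.mem_top)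
      rwa [mul_one] at this)
    obtain ⟨Q, hQ, hJQ⟩ := Ideal.exists_le_maximal J hJne
    have hyJ : y ∈ J := (hJ y).2 (Ideal.mul_mem_left _ _ (Ideal.mem_span_singleton_self y))
    have hfQ : algebraMap B D.A D.f ∈ Q := by
      rw [← hc₁]; exact Q.mul_mem_left _ (hJQ hyJ)
    let σ := algebraMap D.A (Localization.AtPrime Q)
    have := (D.isRegularLocalRing_branch hf hNu hD y n hy₁ hy₂ hy₃ Q hfQ).2
    have hprime : (Ideal.span {σ y}).IsPrime := Ideal.Quotient.isDomain_iff_prime _ |>.1 this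
    have h1 : σ a ∈ (Ideal.span {y}).map σ := by
      rw [Ideal.map_span, Set.image_singleton]
      refine hprime.mem_of_pow_mem m ?_
      rw [← map_pow]
      have := Ideal.mem_map_of_mem σ ham
      rwa [Ideal.map_span, Set.image_singleton] at this
    obtain ⟨c, hc, hca⟩ := (IsLocalization.algebraMap_mem_map_algebraMap_iff Q.primeCompl _ _ a).1 h1
    exact hc (hJQ ((hJ c).2 (by rwa [mul_comm])))
  obtain ⟨p, hp, hpz⟩ := hz
  have hdesc : ∀ w : L, (y : L) * w ∈ D.A → IsIntegral B w → w ∈ D.A := by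
    rintro w hw ⟨p, hp, hpw⟩
    have h2 : (p.scaleRoots 0).Monic := (monic_scaleRoots_iff 0).2 hp
    let b : D.A := ⟨(y : L) * w, hw⟩
    let q : D.A[X] := p.map (algebraMap B D.A)
    have hq : q.Monic := hp.map _
    have hqw : eval₂ (D.A.val : D.A →+* L) w q = 0 := by
      rw [eval₂_map]; exact hpw
    have h3 : eval₂ (D.A.val : D.A →+* L) ((y : L) * w) (q.scaleRoots y) = 0 :=
      scaleRoots_eval₂_eq_zero (D.A.val : D.A →+* L) hqw
    have h4 : eval b (q.scaleRoots y) = 0 := Subtype.val_injective (by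
      change (D.A.val : D.A →+* L) (eval b (q.scaleRoots y)) = _
      rw [← eval₂_at_apply]; exact h3)
    have h5 : b ^ q.natDegree ∈ Ideal.span {y} := by
      rw [eval_eq_sum_range, natDegree_scaleRoots, Finset.sum_range_succ, coeff_scaleRoots,
        Nat.sub_self, pow_zero, mul_one, hq.coeff_natDegree, one_mul] at h4
      rw [eq_neg_of_add_eq_zero_right h4]
      refine neg_mem (Ideal.sum_mem _ fun i hi => Ideal.mul_mem_right _ _ ?_)
      rw [coeff_scaleRoots]
      refine Ideal.mul_mem_left _ _ (Ideal.pow_mem_of_mem _ (Ideal.mem_span_singleton_self y) _ ?_)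
      have := Finset.mem_range.1 hi
      omega
    obtain ⟨c, hc⟩ := Ideal.mem_span_singleton'.1 (hrad b _ h5)
    have h6 : (c : L) * (y : L) = (y : L) * w := congrArg Subtype.val hc
    rw [mul_comm] at h6
    exact hyu.mul_left_cancel h6 ▸ c.2
  obtain ⟨l, hl⟩ := hden
  have hlarge : ∀ m, (y : L) ^ m * z ∈ D.A → z ∈ D.A := by
    intro m
    induction m with
    | zero => intro h; rwa [pow_zero, one_mul] at h
    | succ m ih =>
      intro h
      refine ih (hdesc _ (by rwa [← mul_assoc, ← pow_succ']) ?_)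
      have hy : IsIntegral B (y : L) := by
        have := D.finite
        exact (IsIntegral.of_finite B y).map D.A.val
      exact (hy.pow m).mul ⟨p, hp, hpz⟩
  refine hlarge (n * l) ?_
  rw [pow_mul, ← hc₂', mul_pow, mul_assoc]
  exact mul_mem (pow_mem c₂.2 _) hl

end CovData

end Groth.Agent.CycCover
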