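import Groth.Agent.CAlgReg.Basic

/-!
Criteria for regularity of the local rings of a finite extension.
-/

set_option autoImplicit false

universe u

open IsLocalRing Polynomial

namespace Groth.Agent.CycCover

variable {R : Type u} [CommRing R] [IsNoetherianRing R]

theorem exists_numerators (P : Ideal R) [P.IsPrime] (hP : IsRegularLocalRing (Localization.AtPrime P)) :
    ∃ t : Finset R, (↑t : Set R) ⊆ P ∧ ((t.card : WithBot ℕ∞) ≤ P.height) ∧
      ∀ b ∈ P, ∃ s ∉ P, s * b ∈ Ideal.span (t : Set R) := by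
  classical
  let Rp := Localization.AtPrime P
  obtain ⟨z, hz, hspan⟩ := Submodule.FG.exists_span_finset_card_eq_spanFinrank
    (IsNoetherian.noetherian (maximalIdeal Rp))
  choose a s has using fun x : Rp => IsLocalization.exists_mk'_eq P.primeCompl x
  refine ⟨z.image a, ?_, ?_, fun b hb => ?_⟩
  · intro r hr
    obtain ⟨x, hx, rfl⟩ := Finset.mem_image.1 (Finset.mem_coe.1 hr)
    have hxm : x ∈ maximalIdeal Rp := hspan ▸ Submodule.subset_span hx
    rw [← has x] at hxm
    exact (IsLocalization.AtPrime.mk'_mem_maximal_iff Rp P (a x) (s x)).1 hxm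
  · rw [← IsLocalization.AtPrime.ringKrullDim_eq_height P Rp,
      ← ((isRegularLocalRing_iff Rp).1 hP), ← hz]
    exact_mod_cast Finset.card_image_le
  · have h1 : algebraMap R Rp b ∈ (Ideal.span (↑(z.image a) : Set R)).map (algebraMap R Rp) := by
      have h2 : algebraMap R Rp b ∈ maximalIdeal Rp :=
        (IsLocalization.AtPrime.to_map_mem_maximal_iff Rp P b).2 hb
      rw [← hspan] at h2
      refine (Submodule.span_le.2 fun x hx => ?_) h2
      rw [SetLike.mem_coe, ← has x, IsLocalization.mk'_eq_mul_mk'_one]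
      exact Ideal.mul_mem_right _ _ (Ideal.mem_map_of_mem _
        (Submodule.subset_span (Finset.mem_image_of_mem a hx)))
    obtain ⟨c, hc, hcb⟩ := (IsLocalization.algebraMap_mem_map_algebraMap_iff P.primeCompl Rp _ b).1 h1
    exact ⟨c, hc, hcb⟩

/-- The height drops on a hypersurface of a domain. -/
theorem height_add_one_le {B : Type u} [CommRing B] [IsDomain B] {f : B} (hf : f ≠ 0) (P : Ideal B)
    [P.IsPrime] (P' : Ideal (B ⧸ Ideal.span {f})) [P'.IsPrime]
    (hP : P'.comap (Ideal.Quotient.mk _) = P) : P'.height + 1 ≤ P.height := by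
  classical
  rw [show P.height = Order.height (⟨P, ‹_›⟩ : PrimeSpectrum B) from
      PrimeSpectrum.height_eq_orderHeight (⟨P, ‹_›⟩ : PrimeSpectrum B),
    show P'.height = Order.height (⟨P', ‹_›⟩ : PrimeSpectrum (B ⧸ Ideal.span {f})) from
      PrimeSpectrum.height_eq_orderHeight (⟨P', ‹_›⟩ : PrimeSpectrum (B ⧸ Ideal.span {f}))]
  let φ : WithBot (PrimeSpectrum (B ⧸ Ideal.span {f})) → PrimeSpectrum B :=
    WithBot.recBotCoe ⟨⊥, Ideal.isPrime_bot⟩ (PrimeSpectrum.comap (Ideal.Quotient.mk _))
  have hφ : StrictMono φ := by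
    intro a b hab
    induction b with
    | bot => exact absurd hab not_lt_bot
    | coe b =>
      induction a with
      | bot =>
        refine lt_of_le_of_ne (bot_le : (⊥ : Ideal B) ≤ _) fun h => hf ?_
        have hmem : f ∈ (PrimeSpectrum.comap (Ideal.Quotient.mk (Ideal.span {f})) b).asIdeal := by
          rw [PrimeSpectrum.comap_asIdeal, Ideal.mem_comap,
            Ideal.Quotient.eq_zero_iff_mem.2 (Ideal.mem_span_singleton_self f)]
          exact zero_mem _
        have h2 : f ∈ (φ (b : WithBot _)).asIdeal := hmem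
        rw [← h] at h2
        exact h2
      | coe a =>
        exact RingHom.strictMono_comap_of_surjective Ideal.Quotient.mk_surjective (WithBot.coe_lt_coe.1 hab)
  have h := Order.height_le_height_apply_of_strictMono φ hφ ((⟨P', ‹_›⟩ : PrimeSpectrum _) : WithBot _)
  rw [Order.height_coe_withBot] at h
  have he : φ ((⟨P', ‹_›⟩ : PrimeSpectrum (B ⧸ Ideal.span {f})) : WithBot _) = ⟨P, ‹_›⟩ :=
    PrimeSpectrum.ext hP
  rw [he] at h
  exact h

/-- A local ring generated over a field by a root of a separable polynomial is a field. -/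
theorem maximalIdeal_eq_bot_of_separable {κ M : Type u} [Field κ] [CommRing M] [IsLocalRing M]
    (θ : κ[X] →+* M) (p : κ[X]) (hp : p.Separable) (hθ : θ p = 0)
    (hgen : ∀ z, ∃ q v, IsUnit v ∧ z * v = θ q) : maximalIdeal M = ⊥ := by
  let π := (residue M).comp θ
  have hp0 : p ≠ 0 := hp.ne_zero
  let J : Ideal κ[X] := RingHom.ker π
  have hpJ : p ∈ J := by rw [RingHom.mem_ker, RingHom.comp_apply, hθ, map_zero]
  obtain ⟨h, hh⟩ : ∃ h, J = Ideal.span {h} := ⟨_, (Ideal.span_singleton_generator J).symm⟩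
  obtain ⟨h', hh'⟩ : h ∣ p := by
    rw [← Ideal.mem_span_singleton, ← hh]; exact hpJ
  have hco : IsCoprime h h' := (hh' ▸ hp : (h * h').Separable).isCoprime
  have hh'unit : IsUnit (θ h') := by
    by_contra hu
    have h1 : h' ∈ J := by
      rw [RingHom.mem_ker, RingHom.comp_apply, residue_eq_zero_iff]
      exact (mem_maximalIdeal _).2 hu
    rw [hh, Ideal.mem_span_singleton] at h1
    have h2 : IsUnit h := hco.isUnit_of_dvd' dvd_rfl h1
    have h3 : (1 : κ[X]) ∈ J := by
      rw [hh, Ideal.mem_span_singleton]; exact h2.dvd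
    rw [RingHom.mem_ker, map_one] at h3
    exact one_ne_zero h3
  have hθh : θ h = 0 := by
    have h1 : θ h * θ h' = 0 := by rw [← map_mul, ← hh', hθ]
    exact hh'unit.mul_left_eq_zero.1 h1
  refine (Submodule.eq_bot_iff _).2 fun z hz => ?_
  obtain ⟨q, v, hv, hzv⟩ := hgen z
  have hq : q ∈ J := by
    rw [RingHom.mem_ker, RingHom.comp_apply, residue_eq_zero_iff, ← hzv]
    exact Ideal.mul_mem_right _ _ hz
  rw [hh, Ideal.mem_span_singleton] at hq
  obtain ⟨r, rfl⟩ := hq
  rw [map_mul, hθh, zero_mul] at hzv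
  exact hv.mul_left_eq_zero.1 hzv

variable {B A : Type u} [CommRing B] [CommRing A] [Algebra B A] [IsNoetherianRing A]

/-- The maximal ideal of `A_Q` is generated by `t` and `y` if modulo these `A` is generated by a root of
a separable polynomial. -/
theorem maximalIdeal_eq_span (P : Ideal B) [P.IsPrime] (Q : Ideal A) [Q.IsPrime] [Q.LiesOver P]
    (t : Finset B) (y : A) (hy : y ∈ Q) (ht : (t : Set B) ⊆ P)
    (hPt : ∀ b ∈ P, ∃ s ∉ P, algebraMap B A (s * b) ∈
      Ideal.span (algebraMap B A '' (t : Set B) ∪ {y}))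
    (w : A) (n : ℕ) (hn : IsUnit (n : B)) (c : B) (hc : c ∉ P) (hw : w ^ n = algebraMap B A c)
    (hgen : ∀ a : A, ∃ (b : B) (q : B[X]), b ∉ P ∧
      algebraMap B A b * a - aeval w q ∈ Ideal.span {y}) :
    maximalIdeal (Localization.AtPrime Q) =
      Ideal.span ((algebraMap A (Localization.AtPrime Q) ∘ algebraMap B A) '' (t : Set B) ∪
        {algebraMap A (Localization.AtPrime Q) y}) := by
  classical
  let S := Localization.AtPrime Q
  let Bp := Localization.AtPrime P
  let σ := algebraMap A S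
  let I : Ideal S := Ideal.span ((σ ∘ algebraMap B A) '' (t : Set B) ∪ {σ y})
  have hPQ : P = Q.comap (algebraMap B A) := Q.over_def P
  have hbQ : ∀ b, b ∉ P → IsUnit (σ (algebraMap B A b)) := fun b hb =>
    (IsLocalization.AtPrime.isUnit_to_map_iff S Q _).2 fun h => hb (by rw [hPQ]; exact h)
  have hbQ' : ∀ b, b ∈ P → σ (algebraMap B A b) ∈ maximalIdeal S := fun b hb =>
    (IsLocalization.AtPrime.to_map_mem_maximal_iff S Q _).2 (by rw [hPQ] at hb; exact hb)
  have hIle : I ≤ maximalIdeal S := by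
    rw [Ideal.span_le]
    rintro x (⟨b, hb, rfl⟩ | rfl)
    · exact hbQ' b (ht hb)
    · exact (IsLocalization.AtPrime.to_map_mem_maximal_iff S Q _).2 hy
  refine le_antisymm ?_ hIle
  have hIy : (Ideal.span {y}).map σ ≤ I := by
    rw [Ideal.map_span, Set.image_singleton]
    exact Ideal.span_mono Set.subset_union_right
  have hIP : ∀ b ∈ P, σ (algebraMap B A b) ∈ I := by
    intro b hb
    obtain ⟨s, hs, hmem⟩ := hPt b hb
    have h1 := Ideal.mem_map_of_mem σ hmem
    rw [Ideal.map_span, Set.image_union, ← Set.image_comp, Set.image_singleton, map_mul, map_mul] at h1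
    exact (I.unit_mul_mem_iff_mem (hbQ s hs)).1 h1
  have hIne : I ≠ ⊤ := fun h => (maximalIdeal.isMaximal S).ne_top (top_le_iff.1 (h ▸ hIle))
  have : Nontrivial (S ⧸ I) := Ideal.Quotient.nontrivial_iff.2 hIne
  have : IsLocalRing (S ⧸ I) := .of_surjective' _ Ideal.Quotient.mk_surjective
  let ψ : B →+* S ⧸ I := (Ideal.Quotient.mk I).comp (σ.comp (algebraMap B A))
  have hψu : ∀ s : P.primeCompl, IsUnit (ψ s) := fun s => (hbQ s s.2).map (Ideal.Quotient.mk I)
  let ψp : Bp →+* S ⧸ I := IsLocalization.lift hψu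
  have hψm : maximalIdeal Bp ≤ RingHom.ker ψp := by
    intro x hx
    obtain ⟨b, s, rfl⟩ := IsLocalization.exists_mk'_eq P.primeCompl x
    rw [IsLocalization.AtPrime.mk'_mem_maximal_iff Bp P] at hx
    rw [RingHom.mem_ker]
    have h2 := congrArg ψp (IsLocalization.mk'_spec Bp b s)
    rw [map_mul] at h2
    have h3 : ψp (algebraMap B Bp b) = 0 :=
      (IsLocalization.lift_eq hψu b).trans (Ideal.Quotient.eq_zero_iff_mem.2 (hIP b hx))
    exact ((IsLocalization.map_units Bp s).map ψp).mul_left_eq_zero.1 (h2.trans h3)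
  let ψκ : ResidueField Bp →+* S ⧸ I := Ideal.Quotient.lift _ ψp hψm
  let red : B →+* ResidueField Bp := (residue Bp).comp (algebraMap B Bp)
  have hψred : ψκ.comp red = ψ := RingHom.ext fun b => IsLocalization.lift_eq _ b
  let θ : (ResidueField Bp)[X] →+* S ⧸ I := eval₂RingHom ψκ (Ideal.Quotient.mk I (σ w))
  have hθq : ∀ q : B[X], θ (q.map red) = Ideal.Quotient.mk I (σ (aeval w q)) := fun q => by
    rw [coe_eval₂RingHom, eval₂_map, hψred, aeval_def, hom_eval₂, hom_eval₂]
  have hn' : ((n : ℕ) : ResidueField Bp) ≠ 0 := by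
    have := (hn.map red).ne_zero
    rwa [map_natCast] at this
  have hc' : red c ≠ 0 := by
    intro h
    rw [RingHom.comp_apply, residue_eq_zero_iff, IsLocalization.AtPrime.to_map_mem_maximal_iff Bp P] at h
    exact hc h
  have hfield := maximalIdeal_eq_bot_of_separable θ (X ^ n - C (red c))
    (separable_X_pow_sub_C _ hn' hc')
    (by
      have h1 := hθq (X ^ n - C c)
      simp only [Polynomial.map_sub, Polynomial.map_pow, Polynomial.map_X, Polynomial.map_C] at h1
      rw [h1, map_sub, map_pow, aeval_X, aeval_C, hw, sub_self, map_zero, map_zero])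
    (fun z => by
      obtain ⟨z, rfl⟩ := Ideal.Quotient.mk_surjective z
      obtain ⟨a, s, rfl⟩ := IsLocalization.exists_mk'_eq Q.primeCompl z
      obtain ⟨b, q, hb, hbq⟩ := hgen a
      refine ⟨q.map red, Ideal.Quotient.mk I (σ (algebraMap B A b) * σ s),
        (((hbQ b hb).mul (IsLocalization.map_units S s))).map _, ?_⟩
      rw [hθq, ← map_mul, Ideal.Quotient.eq, mul_left_comm, IsLocalization.mk'_spec, ← map_mul, ← map_sub]
      exact hIy (Ideal.mem_map_of_mem σ hbq))
  intro x hx
  rw [← Ideal.Quotient.eq_zero_iff_mem]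
  have h1 : Ideal.Quotient.mk I x ∈ maximalIdeal (S ⧸ I) := by
    rw [← IsLocalRing.map_maximalIdeal_of_surjective (Ideal.Quotient.mk I) Ideal.Quotient.mk_surjective]
    exact Ideal.mem_map_of_mem _ hx
  rwa [hfield, Ideal.mem_bot] at h1

end Groth.Agent.CycCover
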